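import Cfsg.Agent.Lib.Grp.J1.Defs

set_option autoImplicit false
set_option maxRecDepth 100000
set_option Elab.async false

namespace Cfsg.Agent.CG.J1

theorem c0 : allRange (chkBase 266 12 (appT tabs t46 0xfff) 0 (inv 0)) 0 266 = true := by decide +kernel
theorem c1 : allRange (chkBase 266 12 (appT tabs t46 0xfff) 1 (inv 1)) 0 266 = true := by decide +kernel
theorem c2 : allRange (chkBase 266 12 (appT tabs t46 0xfff) 2 (inv 2)) 0 266 = true := by decide +kernel
theorem c3 : allRange (chkBase 266 12 (appT tabs t46 0xfff) 3 (inv 3)) 0 266 = true := by decide +kernel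
theorem c4 : chkDef 12 (appT tabs t46 0xfff) 4 (slp 4) 0 266 = true := by decide +kernel
theorem c5 : chkDef 12 (appT tabs t46 0xfff) 5 (slp 5) 0 266 = true := by decide +kernel
theorem c6 : chkDef 12 (appT tabs t46 0xfff) 6 (slp 6) 0 266 = true := by decide +kernel
theorem c7 : chkDef 12 (appT tabs t46 0xfff) 7 (slp 7) 0 266 = true := by decide +kernel
theorem c8 : chkDef 12 (appT tabs t46 0xfff) 8 (slp 8) 0 266 = true := by decide +kernel
theorem c9 : chkDef 12 (appT tabs t46 0xfff) 9 (slp 9) 0 266 = true := by decide +kernel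
theorem c10 : chkDef 12 (appT tabs t46 0xfff) 10 (slp 10) 0 266 = true := by decide +kernel
theorem c11 : chkDef 12 (appT tabs t46 0xfff) 11 (slp 11) 0 266 = true := by decide +kernel
theorem c12 : chkDef 12 (appT tabs t46 0xfff) 12 (slp 12) 0 266 = true := by decide +kernel
theorem c13 : chkDef 12 (appT tabs t46 0xfff) 13 (slp 13) 0 266 = true := by decide +kernel
theorem c14 : chkDef 12 (appT tabs t46 0xfff) 14 (slp 14) 0 266 = true := by decide +kernel
theorem c15 : chkDef 12 (appT tabs t46 0xfff) 15 (slp 15) 0 266 = true := by decide +kernel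
theorem c16 : chkDef 12 (appT tabs t46 0xfff) 16 (slp 16) 0 266 = true := by decide +kernel
theorem c17 : chkDef 12 (appT tabs t46 0xfff) 17 (slp 17) 0 266 = true := by decide +kernel
theorem c18 : chkDef 12 (appT tabs t46 0xfff) 18 (slp 18) 0 266 = true := by decide +kernel
theorem c19 : chkDef 12 (appT tabs t46 0xfff) 19 (slp 19) 0 266 = true := by decide +kernel
theorem c20 : chkDef 12 (appT tabs t46 0xfff) 20 (slp 20) 0 266 = true := by decide +kernel
theorem c21 : chkDef 12 (appT tabs t46 0xfff) 21 (slp 21) 0 266 = true := by decide +kernel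
theorem c22 : chkDef 12 (appT tabs t46 0xfff) 22 (slp 22) 0 266 = true := by decide +kernel
theorem c23 : chkDef 12 (appT tabs t46 0xfff) 23 (slp 23) 0 266 = true := by decide +kernel
theorem c24 : chkDef 12 (appT tabs t46 0xfff) 24 (slp 24) 0 266 = true := by decide +kernel
theorem c25 : chkDef 12 (appT tabs t46 0xfff) 25 (slp 25) 0 266 = true := by decide +kernel
theorem c26 : chkDef 12 (appT tabs t46 0xfff) 26 (slp 26) 0 266 = true := by decide +kernel
theorem c27 : chkDef 12 (appT tabs t46 0xfff) 27 (slp 27) 0 266 = true := by decide +kernel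
theorem c28 : chkDef 12 (appT tabs t46 0xfff) 28 (slp 28) 0 266 = true := by decide +kernel
theorem c29 : chkDef 12 (appT tabs t46 0xfff) 29 (slp 29) 0 266 = true := by decide +kernel
theorem c30 : chkDef 12 (appT tabs t46 0xfff) 30 (slp 30) 0 266 = true := by decide +kernel
theorem c31 : chkDef 12 (appT tabs t46 0xfff) 31 (slp 31) 0 266 = true := by decide +kernel
theorem c32 : chkDef 12 (appT tabs t46 0xfff) 32 (slp 32) 0 266 = true := by decide +kernel
theorem c33 : chkDef 12 (appT tabs t46 0xfff) 33 (slp 33) 0 266 = true := by decide +kernel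
theorem c34 : chkDef 12 (appT tabs t46 0xfff) 34 (slp 34) 0 266 = true := by decide +kernel
theorem c35 : chkDef 12 (appT tabs t46 0xfff) 35 (slp 35) 0 266 = true := by decide +kernel
theorem c36 : chkDef 12 (appT tabs t46 0xfff) 36 (slp 36) 0 266 = true := by decide +kernel
theorem c37 : chkDef 12 (appT tabs t46 0xfff) 37 (slp 37) 0 266 = true := by decide +kernel
theorem c38 : chkDef 12 (appT tabs t46 0xfff) 38 (slp 38) 0 266 = true := by decide +kernel
theorem c39 : chkDef 12 (appT tabs t46 0xfff) 39 (slp 39) 0 266 = true := by decide +kernel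
theorem c40 : chkDef 12 (appT tabs t46 0xfff) 40 (slp 40) 0 266 = true := by decide +kernel
theorem c41 : chkDef 12 (appT tabs t46 0xfff) 41 (slp 41) 0 266 = true := by decide +kernel
theorem c42 : chkDef 12 (appT tabs t46 0xfff) 42 (slp 42) 0 266 = true := by decide +kernel
theorem c43 : chkDef 12 (appT tabs t46 0xfff) 43 (slp 43) 0 266 = true := by decide +kernel
theorem c44 : chkDef 12 (appT tabs t46 0xfff) 44 (slp 44) 0 266 = true := by decide +kernel
theorem c45 : chkDef 12 (appT tabs t46 0xfff) 45 (slp 45) 0 266 = true := by decide +kernel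
theorem c46 : chkDef 12 (appT tabs t46 0xfff) 46 (false, []) 0 266 = true := by decide +kernel
theorem c47 : mc0.chk (appT tabs t46 0xfff) 1 265 = true := by decide +kernel
theorem c48 : mc1.chk (appT tabs t46 0xfff) 1 10 = true := by decide +kernel
theorem c49 : mc2.chk (appT tabs t46 0xfff) 1 11 = true := by decide +kernel
theorem c50 : mc3.chk (appT tabs t46 0xfff) 1 4 = true := by decide +kernel
theorem c51 : okcb 266 12 (bases mc) = true := by decide +kernel
theorem c52 : headAll (appT tabs t46 0xfff) mc [] = true := by decide +kernel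
theorem c53 : tc0.head tcR = true := by decide +kernel
theorem c54 : allL (fun a => tc0.chk a 0 tc0.N) tc0.S = true := by decide +kernel
theorem c55 : tc1.head tcR = true := by decide +kernel
theorem c56 : allL (fun a => tc1.chk a 0 tc1.N) tc1.S = true := by decide +kernel
theorem c57 : tc2.head tcR = true := by decide +kernel
theorem c58 : allL (fun a => tc2.chk a 0 tc2.N) tc2.S = true := by decide +kernel
theorem c59 : tc3.head tcR = true := by decide +kernel
theorem c60 : allL (fun a => tc3.chk a 0 tc3.N) tc3.S = true := by decide +kernel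
theorem c61 : tcLink tc [] [29,30,31,32,33] = true := by decide +kernel
theorem c62 : oneAll 12 (appT tabs t46 0xfff) [29,30] 0 266 = true := by decide +kernel
theorem c63 : oneAll 12 (appT tabs t46 0xfff) [30,29] 0 266 = true := by decide +kernel
theorem c64 : oneAll 12 (appT tabs t46 0xfff) [29,29,29,29,29] 0 266 = true := by decide +kernel
theorem c65 : oneAll 12 (appT tabs t46 0xfff) [31,31] 0 266 = true := by decide +kernel
theorem c66 : oneAll 12 (appT tabs t46 0xfff) [31,29,29,31,29,29,31,29,29] 0 266 = true := by decide +kernel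
theorem c67 : oneAll 12 (appT tabs t46 0xfff) [31,30,30,31,29,31,30,30,31,29] 0 266 = true := by decide +kernel
theorem c68 : oneAll 12 (appT tabs t46 0xfff) [32,32] 0 266 = true := by decide +kernel
theorem c69 : oneAll 12 (appT tabs t46 0xfff) [32,31,32,31] 0 266 = true := by decide +kernel
theorem c70 : oneAll 12 (appT tabs t46 0xfff) [32,30,31,29,32,31,30,31,29,31] 0 266 = true := by decide +kernel
theorem c71 : oneAll 12 (appT tabs t46 0xfff) [32,30,32,29,32,29,29,31,30,30] 0 266 = true := by decide +kernel
theorem c72 : oneAll 12 (appT tabs t46 0xfff) [30,30,31,32,30,30,32,31,30,30,32,31] 0 266 = true := by decide +kernel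
theorem c73 : oneAll 12 (appT tabs t46 0xfff) [33,33] 0 266 = true := by decide +kernel
theorem c74 : oneAll 12 (appT tabs t46 0xfff) [33,31,33,31,33,31] 0 266 = true := by decide +kernel
theorem c75 : oneAll 12 (appT tabs t46 0xfff) [33,32,33,29,33,32,33,29] 0 266 = true := by decide +kernel
theorem c76 : oneAll 12 (appT tabs t46 0xfff) [30,32,33,32,29,32,33,32,33,29,32] 0 266 = true := by decide +kernel
theorem c77 : oneAll 12 (appT tabs t46 0xfff) [32,33,32,33,32,33,32,33,32,33] 0 266 = true := by decide +kernel
theorem c78 : eqAll 12 (appT tabs t46 0xfff) [0] (nth inW [] 0) 0 266 = true := by decide +kernel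
theorem c79 : eqAll 12 (appT tabs t46 0xfff) [1] (nth inW [] 1) 0 266 = true := by decide +kernel
theorem c80 : eqAll 12 (appT tabs t46 0xfff) [2] (nth inW [] 2) 0 266 = true := by decide +kernel
theorem c81 : eqAll 12 (appT tabs t46 0xfff) [3] (nth inW [] 3) 0 266 = true := by decide +kernel

end Cfsg.Agent.CG.J1
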