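import Cfsg.Agent.Lib.Grp.J1.D0

set_option autoImplicit false
set_option maxRecDepth 100000
set_option Elab.async false

namespace Cfsg.Agent.CG.J1

noncomputable def tabs : List ℕ := [t0,t1,t2,t3,t4,t5,t6,t7,t8,t9,t10,t11,t12,t13,t14,t15,t16,t17,t18,t19,t20,t21,t22,t23,t24,t25,t26,t27,t28,t29,t30,t31,t32,t33,t34,t35,t36,t37,t38,t39,t40,t41,t42,t43,t44,t45]
noncomputable abbrev app : ℕ → ℕ → ℕ := appT tabs t46 0xfff
noncomputable def slpL : List (Bool × List ℕ) := [(false,[]),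
  (false,[]),
  (false,[]),
  (false,[]),
  (false,[1,2]),
  (true,[4]),
  (false,[0,2]),
  (true,[6]),
  (false,[6,6,6,6,6]),
  (false,[4]),
  (true,[9]),
  (false,[6,1,3,1,5,3,4,6,1,2,4,0,8,1,5,3,0,7,5,2,4,0,2,0,7]),
  (false,[11,10,11,9,9,11,10]),
  (true,[12]),
  (false,[12,10,12,12,12,9,9]),
  (true,[14]),
  (false,[13,14,9,11,9,9,15]),
  (true,[16]),
  (false,[9,16,15,11,17,12,15,15,15,13,15]),
  (true,[18]),
  (false,[12,16,10,10,11,15,13,11,15,11]),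
  (true,[20]),
  (false,[19,20,11,10,14,14,9,15,11,14,17,14,13]),
  (false,[20,11,14,11,15,16,14,16,12,10,11,17]),
  (true,[23]),
  (false,[19,17,17,15,11,13,17,15,9,11,9,9]),
  (true,[25]),
  (false,[25,22,19,19,12,16,14,13,9,9,17,11,16,15,11]),
  (true,[27]),
  (false,[27,27]),
  (true,[29]),
  (false,[23,22]),
  (false,[19,19,25,22,28]),
  (false,[9,9,11,19,28,28]),
  (false,[15,17,19,25]),
  (false,[10,12,11,20,19,25,28]),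
  (false,[12,11,18,18,23,27]),
  (false,[11,17,13,19,21,25,22]),
  (false,[10,15,11,18,18,22,28]),
  (true,[38]),
  (false,[9,15,9,9,19,25,22,27]),
  (true,[40]),
  (false,[9,9]),
  (true,[42]),
  (false,[9,9,9,9]),
  (true,[44])]
noncomputable def slp (a : ℕ) : Bool × List ℕ := nth slpL (false, []) a
noncomputable def invL : List ℕ := [1,0,3,2,5,4,7,6,8,10,9,11,13,12,15,14,17,16,19,18,21,20,22,24,23,26,25,28,27,30,29,31,32,33,34,35,36,37,39,38,41,40,43,42,45,44]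
noncomputable def inv (a : ℕ) : ℕ := nth invL 46 a
noncomputable def bs : List ℕ := [648,2292,3144,2544]
noncomputable def mc0 : Lvl := ⟨648, [9,10,11,12,13,14,15,16,17], 266,
  fun i => look 0xfff mc0c (Nat.mul 12 i), fun i => look 0xfff mc0p (Nat.mul 12 i),
  fun i => look 255 mc0l (Nat.mul 8 i), fun i => look 255 mc0i (Nat.mul 8 i), fun x => look 0xfff mc0q x, 4⟩
noncomputable def mc1 : Lvl := ⟨2292, [18,19,20,21], 11,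
  fun i => look 0xfff mc1c (Nat.mul 12 i), fun i => look 0xf mc1p (Nat.mul 4 i),
  fun i => look 255 mc1l (Nat.mul 8 i), fun i => look 255 mc1i (Nat.mul 8 i), fun x => look 0xfff mc1q x, 3⟩
noncomputable def mc2 : Lvl := ⟨3144, [22,23,24,25,26], 12,
  fun i => look 0xfff mc2c (Nat.mul 12 i), fun i => look 0xf mc2p (Nat.mul 4 i),
  fun i => look 255 mc2l (Nat.mul 8 i), fun i => look 255 mc2i (Nat.mul 8 i), fun x => look 0xfff mc2q x, 3⟩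
noncomputable def mc3 : Lvl := ⟨2544, [27,28], 5,
  fun i => look 0xfff mc3c (Nat.mul 12 i), fun i => look 0xf mc3p (Nat.mul 4 i),
  fun i => look 255 mc3l (Nat.mul 8 i), fun i => look 255 mc3i (Nat.mul 8 i), fun x => look 0xfff mc3q x, 2⟩
noncomputable def mc : List Lvl := [mc0, mc1, mc2, mc3]
noncomputable def tcR : List (List ℕ) := [[29,30],
  [30,29],
  [29,29,29,29,29],
  [31,31],
  [31,29,29,31,29,29,31,29,29],
  [31,30,30,31,29,31,30,30,31,29],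
  [32,32],
  [32,31,32,31],
  [32,30,31,29,32,31,30,31,29,31],
  [32,30,32,29,32,29,29,31,30,30],
  [30,30,31,32,30,30,32,31,30,30,32,31],
  [33,33],
  [33,31,33,31,33,31],
  [33,32,33,29,33,32,33,29],
  [30,32,33,32,29,32,33,32,33,29,32],
  [32,33,32,33,32,33,32,33,32,33]]
noncomputable def tc0T : List ℕ := [0,0,0,0,0,0,0,0,0,0,0,0,0,0,0,0,0,0,0,0,0,0,0,0,0,0,0,0,0,tc0t29,tc0t30,tc0t31,tc0t32,tc0t33]
noncomputable def tc0r : Tr Rule := (.node (.node (.node (.node (.node (.node (.node (.leaf ⟨33,[33],11,1⟩) (.leaf ⟨29,[31,32,30,31,29,32,31,30,31],8,8⟩)) (.leaf ⟨29,[31,30,30,31,29,31,30,30,31],5,4⟩)) (.node (.node (.leaf ⟨32,[33,32,33,29,32,30,32,33,32,29],14,5⟩) (.leaf ⟨32,[33,32,33,32,33,32,33,32,33],15,6⟩)) (.leaf ⟨33,[32,33,29,33,32,33,29],13,0⟩))) (.node (.node (.node (.leaf ⟨30,[32,29,32,29,29,31,30,30,32],9,1⟩) (.leaf ⟨30,[31,29,32,31,30,31,29,31,32],8,1⟩))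 (.leaf ⟨29,[31,30,30,31,29,31,30,30,31],5,9⟩)) (.node (.leaf ⟨32,[31,30,31,29,31,32,30,31,29],8,4⟩) (.leaf ⟨33,[32,33,32,33,32,33,32,33,32],15,7⟩)))) (.node (.node (.node (.node (.leaf ⟨32,[32],6,1⟩) (.leaf ⟨32,[33,32,33,32,33,32,33,32,33],15,2⟩)) (.leaf ⟨32,[30,31,29,32,31,30,31,29,31],8,0⟩)) (.node (.leaf ⟨30,[30,32,30,32,29,32,29,29,31],9,8⟩) (.leaf ⟨32,[29,29,31,30,30,32,30,32,29],9,4⟩))) (.node (.node (.node (.leaf ⟨33,[31,33,31,33,31],12,4⟩) (.leaf ⟨33,[31,33,31,33,31],12,0⟩)) (.leaf ⟨33,[29,33,32,33,29,33,32],13,6⟩)) (.node (.leaf ⟨29,[32,29,29,31,30,30,32,30,32],9,3⟩) (.leaf ⟨30,[30,32,31,30,30,31,32,30,30,32,31],10,8⟩))))) (.node (.node (.node (.node (.node (.leaf ⟨29,[30],0,0⟩) (.leaf ⟨31,[29,32,31,30,31,29,31,32,30],8,2⟩)) (.leaf ⟨31,[32,31,32],7,1⟩)) (.node (.leaf ⟨32,[33,32,29,32,33,32,33,29,32,30],14,1⟩) (.leaf ⟨29,[32,31,30,31,29,31,32,30,31],8,3⟩)))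 (.node (.node (.node (.leaf ⟨30,[31,29,31,32,30,31,29,32,31],8,6⟩) (.leaf ⟨31,[29,31,30,30,31,29,31,30,30],5,3⟩)) (.leaf ⟨32,[29,32,29,29,31,30,30,32,30],9,2⟩)) (.node (.leaf ⟨31,[29,29,31,29,29,31,29,29],4,0⟩) (.leaf ⟨33,[29,33,32,33,29,33,32],13,2⟩)))) (.node (.node (.node (.node (.leaf ⟨29,[29,29,29,29],2,3⟩) (.leaf ⟨29,[29,29,29,29],2,4⟩)) (.leaf ⟨31,[30,30,32,30,32,29,32,29,29],9,7⟩)) (.node (.leaf ⟨29,[29,29,29,29],2,2⟩) (.leaf ⟨29,[32,33,32,33,29,32,30,32,33,32],14,4⟩))) (.node (.node (.node (.leaf ⟨29,[33,32,33,29,33,32,33],13,3⟩) (.leaf ⟨29,[31,29,29,31,29,29,31,29],4,5⟩)) (.leaf ⟨33,[32,29,32,33,32,33,29,32,30,32],14,2⟩)) (.node (.leaf ⟨32,[31,30,30,32,31,30,30,31,32,30,30],10,6⟩) (.leaf ⟨30,[32,33,32,29,32,33,32,33,29,32],14,0⟩)))))) (.node (.node (.node (.node (.node (.node (.leaf ⟨30,[29],0,1⟩) (.leaf ⟨29,[31,30,30,32,30,32,29,32,29],9,6⟩))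 (.leaf ⟨32,[30,32,29,32,29,29,31,30,30],9,0⟩)) (.node (.leaf ⟨32,[30,32,33,32,29,32,33,32,33,29],14,10⟩) (.leaf ⟨31,[33,31,33,31,33],12,5⟩))) (.node (.node (.node (.leaf ⟨30,[31,29,31,30,30,31,29,31,30],5,7⟩) (.leaf ⟨29,[31,29,29,31,29,29,31,29],4,8⟩)) (.leaf ⟨29,[29,31,30,30,32,30,32,29,32],9,5⟩)) (.node (.leaf ⟨30,[32,30,32,29,32,29,29,31,30],9,9⟩) (.leaf ⟨32,[29,32,33,32,33,29,32,30,32,33],14,3⟩)))) (.node (.node (.node (.node (.leaf ⟨31,[32,31,32],7,3⟩) (.leaf ⟨29,[29,31,29,29,31,29,29,31],4,4⟩)) (.leaf ⟨32,[31,32,31],7,0⟩)) (.node (.leaf ⟨29,[29,31,29,29,31,29,29,31],4,7⟩) (.leaf ⟨29,[29,29,29,29],2,1⟩))) (.node (.node (.node (.leaf ⟨32,[33,29,33,32,33,29,33],13,5⟩) (.leaf ⟨31,[29,31,30,30,31,29,31,30,30],5,8⟩)) (.leaf ⟨33,[31,33,31,33,31],12,2⟩)) (.node (.leaf ⟨31,[32,30,30,32,31,30,30,32,31,30,30],10,2⟩) (.leaf ⟨32,[33,29,33,32,33,29,33],13,1⟩)))))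 (.node (.node (.node (.node (.node (.leaf ⟨31,[31],3,1⟩) (.leaf ⟨31,[29,31,32,30,31,29,32,31,30],8,7⟩)) (.leaf ⟨31,[30,31,29,31,32,30,31,29,32],8,5⟩)) (.node (.leaf ⟨32,[31,32,31],7,2⟩) (.leaf ⟨31,[30,30,31,29,31,30,30,31,29],5,5⟩))) (.node (.node (.node (.leaf ⟨30,[30,31,29,31,30,30,31,29,31],5,6⟩) (.leaf ⟨30,[31,29,31,30,30,31,29,31,30],5,2⟩)) (.leaf ⟨33,[32,33,29,32,30,32,33,32,29,32],14,6⟩)) (.node (.leaf ⟨29,[31,29,29,31,29,29,31,29],4,2⟩) (.leaf ⟨29,[32,30,32,33,32,29,32,33,32,33],14,9⟩)))) (.node (.node (.node (.node (.leaf ⟨31,[29,29,31,29,29,31,29,29],4,6⟩) (.leaf ⟨29,[29,31,29,29,31,29,29,31],4,1⟩)) (.leaf ⟨31,[29,29,31,29,29,31,29,29],4,3⟩)) (.node (.leaf ⟨31,[32,30,31,29,32,31,30,31,29],8,9⟩) (.leaf ⟨33,[32,33,32,33,32,33,32,33,32],15,5⟩))) (.node (.node (.node (.leaf ⟨33,[32,33,29,33,32,33,29],13,4⟩) (.leaf ⟨31,[33,31,33,31,33],12,1⟩))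 (.leaf ⟨31,[33,31,33,31,33],12,3⟩)) (.node (.leaf ⟨30,[30,31,29,31,30,30,31,29,31],5,1⟩) (.leaf ⟨29,[33,32,33,29,33,32,33],13,7⟩)))))))
noncomputable def tc0 : TCL := ⟨[29,30,31,32,33], [29,30,31,32], 266, 28, 0x1fff, 13, 0x7f,
  fun a x => look 0xfffffff (nth tc0T 0 a) x, fun x => look 0xfffffff tc0d x, tc0r⟩
noncomputable def tc1T : List ℕ := [0,0,0,0,0,0,0,0,0,0,0,0,0,0,0,0,0,0,0,0,0,0,0,0,0,0,0,0,0,tc1t29,tc1t30,tc1t31,tc1t32]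
noncomputable def tc1r : Tr Rule := (.node (.node (.node (.node (.node (.leaf ⟨32,[32],6,1⟩) (.leaf ⟨29,[31,29,29,31,29,29,31,29],4,8⟩)) (.leaf ⟨31,[29,29,31,29,29,31,29,29],4,3⟩)) (.node (.leaf ⟨29,[29,29,29,29],2,3⟩) (.leaf ⟨31,[30,30,32,31,30,30,31,32,30,30,32],10,7⟩))) (.node (.node (.leaf ⟨29,[30],0,0⟩) (.leaf ⟨32,[31,30,31,29,31,32,30,31,29],8,4⟩)) (.node (.leaf ⟨31,[29,31,32,30,31,29,32,31,30],8,7⟩) (.leaf ⟨32,[30,30,32,31,30,30,32,31,30,30,31],10,3⟩)))) (.node (.node (.node (.node (.leaf ⟨30,[29],0,1⟩) (.leaf ⟨29,[29,29,29,29],2,1⟩)) (.leaf ⟨32,[29,32,29,29,31,30,30,32,30],9,2⟩)) (.node (.leaf ⟨31,[32,31,32],7,3⟩) (.leaf ⟨32,[31,30,30,32,31,30,30,31,32,30,30],10,6⟩))) (.node (.node (.leaf ⟨31,[31],3,1⟩) (.leaf ⟨32,[30,31,29,32,31,30,31,29,31],8,0⟩)) (.node (.leaf ⟨29,[31,30,30,31,29,31,30,30,31],5,9⟩) (.leaf ⟨31,[32,30,30,32,31,30,30,32,31,30,30],10,2⟩)))))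
noncomputable def tc1 : TCL := ⟨[29,30,31,32], [29,30,31], 11, 20, 0xff, 8, 0x1f,
  fun a x => look 0xfffff (nth tc1T 0 a) x, fun x => look 0xfffff tc1d x, tc1r⟩
noncomputable def tc2T : List ℕ := [0,0,0,0,0,0,0,0,0,0,0,0,0,0,0,0,0,0,0,0,0,0,0,0,0,0,0,0,0,tc2t29,tc2t30,tc2t31]
noncomputable def tc2r : Tr Rule := (.node (.node (.node (.node (.leaf ⟨31,[31],3,1⟩) (.leaf ⟨29,[31,30,30,31,29,31,30,30,31],5,9⟩)) (.leaf ⟨31,[29,29,31,29,29,31,29,29],4,6⟩)) (.node (.leaf ⟨29,[30],0,0⟩) (.leaf ⟨29,[29,29,29,29],2,2⟩))) (.node (.node (.leaf ⟨30,[29],0,1⟩) (.leaf ⟨29,[31,29,29,31,29,29,31,29],4,5⟩)) (.node (.leaf ⟨29,[29,29,29,29],2,3⟩) (.leaf ⟨31,[29,29,31,29,29,31,29,29],4,0⟩))))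
noncomputable def tc2 : TCL := ⟨[29,30,31], [29,30], 12, 16, 0xff, 8, 0xf,
  fun a x => look 0xffff (nth tc2T 0 a) x, fun x => look 0xffff tc2d x, tc2r⟩
noncomputable def tc3T : List ℕ := [0,0,0,0,0,0,0,0,0,0,0,0,0,0,0,0,0,0,0,0,0,0,0,0,0,0,0,0,0,tc3t29,tc3t30]
noncomputable def tc3r : Tr Rule := (.node (.node (.leaf ⟨30,[29],0,1⟩) (.leaf ⟨29,[29,29,29,29],2,3⟩)) (.leaf ⟨29,[30],0,0⟩))
noncomputable def tc3 : TCL := ⟨[29,30], [], 5, 16, 0x7f, 7, 0x7,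
  fun a x => look 0xffff (nth tc3T 0 a) x, fun x => look 0xffff tc3d x, tc3r⟩
noncomputable def tc : List TCL := [tc0, tc1, tc2, tc3]
noncomputable def inW : List (List ℕ) := [[31,29,31,29,33,30,32,29],
  [30,32,29,33,30,31,30,31],
  [32,30,32,31,29,33,29,31,29,29,32,31,30,31,29,31,30,30],
  [32,33,32,29,33,31,29,29,32,29,29,31,30]]
noncomputable def tcS : List ℕ := [29,30,31,32,33]

end Cfsg.Agent.CG.J1
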