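import Cfsg.Agent.Lib.Grp.J1.ODefs

set_option autoImplicit false
set_option maxRecDepth 100000
set_option Elab.async false

namespace Cfsg.Agent.CG.J1

theorem Oc82 : cc0.chk (appT tabs t46 0xfff) 1 119 = true := by decide +kernel
theorem Oc83 : okcb 266 12 (bases cc) = true := by decide +kernel
theorem Oc84 : headAll (appT tabs t46 0xfff) cc [] = true := by decide +kernel
theorem Oc85 : tp0.head tpR = true := by decide +kernel
theorem Oc86 : allL (fun a => tp0.chk a 0 tp0.N) tp0.S = true := by decide +kernel
theorem Oc87 : tcLink tp [] [34,35,36] = true := by decide +kernel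
theorem Oc88 : pc0.chk (appT tabs t46 0xfff) 1 7 = true := by decide +kernel
theorem Oc89 : okcb 266 12 (bases pc) = true := by decide +kernel
theorem Oc90 : headAll (appT tabs t46 0xfff) pc [] = true := by decide +kernel
theorem Oc91 : allL (fun v => eqW (appT tabs t46 0xfff) bs v []) tpR = true := by decide +kernel
theorem Oc92 : trChk (appT tabs t46 0xfff) mc0 [mc1, mc2, mc3] bs (diagQ pQ) (diagQ pR) pF 0 266 = true := by decide +kernel
theorem Oc93 : classChk (appT tabs t46 0xfff) bs 11 2 37 [11,9,9,21,21,18,25,22,27] pS pF pU = true := by decide +kernel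
theorem Oc94 : powChk (appT tabs t46 0xfff) bs 9 19 aK nK = true := by decide +kernel
theorem Oc95 : en.chk (appT tabs t46 0xfff) tst 0 1463 0 53363788465 = true := by decide +kernel
theorem Oc96 : commAll (appT tabs t46 0xfff) bs 11 cc = true := by decide +kernel
theorem Oc97 : relChk (appT tabs t46 0xfff) bs 9 11 rT = true := by decide +kernel

end Cfsg.Agent.CG.J1
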