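import Cfsg.Agent.Lib.Grp.J1.OD1
import Cfsg.Agent.Lib.Grp.J1.Defs

set_option autoImplicit false
set_option maxRecDepth 100000
set_option Elab.async false

namespace Cfsg.Agent.CG.J1

noncomputable def cc0 : Lvl := ⟨648, [38,39,40,41], 120,
  fun i => look 0xfff cc0c (Nat.mul 12 i), fun i => look 0xff cc0p (Nat.mul 8 i),
  fun i => look 255 cc0l (Nat.mul 8 i), fun i => look 255 cc0i (Nat.mul 8 i), fun x => look 0xfff cc0q x, 7⟩
noncomputable def cc : List Lvl := [cc0]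
noncomputable def pc0 : Lvl := ⟨648, [34,35,36], 8,
  fun i => look 0xfff pc0c (Nat.mul 12 i), fun i => look 0xf pc0p (Nat.mul 4 i),
  fun i => look 255 pc0l (Nat.mul 8 i), fun i => look 255 pc0i (Nat.mul 8 i), fun x => look 0xfff pc0q x, 3⟩
noncomputable def pc : List Lvl := [pc0]
noncomputable def tpR : List (List ℕ) := [[34,34],
  [35,35],
  [36,36],
  [34,35,34,35],
  [34,36,34,36],
  [35,36,35,36]]
noncomputable def tp0T : List ℕ := [0,0,0,0,0,0,0,0,0,0,0,0,0,0,0,0,0,0,0,0,0,0,0,0,0,0,0,0,0,0,0,0,0,0,tp0t34,tp0t35,tp0t36]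
noncomputable def tp0r : Tr Rule := (.node (.node (.node (.leaf ⟨34,[34],0,1⟩) (.leaf ⟨34,[36,34,36],4,2⟩)) (.leaf ⟨36,[36],2,1⟩)) (.node (.node (.leaf ⟨35,[35],1,1⟩) (.leaf ⟨35,[36,35,36],5,2⟩)) (.leaf ⟨34,[35,34,35],3,2⟩)))
noncomputable def tp0 : TCL := ⟨[34,35,36], [], 8, 16, 0xff, 8, 0xf,
  fun a x => look 0xffff (nth tp0T 0 a) x, fun x => look 0xffff tp0d x, tp0r⟩
noncomputable def tp : List TCL := [tp0]
noncomputable def pS : List ℕ := [34,35,36]
noncomputable def pQ : List (List ℕ) := [[],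
  [36,35,34],
  [35],
  [35,34]]
noncomputable def pR : List (List ℕ) := [[34],
  [35],
  [36]]
noncomputable def pF : List (List ℕ) := [[],
  [13,15,12,19,22,26],
  [15,18,18,24,22,28],
  [9,14,10,21,21,18,22,26],
  [15,17,19,25],
  [11,17,13,19,21,25,22],
  [12,11,18,18,23,27],
  [10,12,11,20,19,25,28]]
noncomputable def pU : List (List ℕ) := [[13,9,19,25,22,28,28],
  [10,12,25,28,28],
  [13,13,9,21,21,18,24],
  [17,11,18,23,22,28,28],
  [16,12,14,21,21,18,25,23,27],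
  [12,17,10,19,21,26,27,27],
  [16,15,12,25,23,27,27]]
noncomputable def aK : List ℕ := [9,42,44]
noncomputable def nK : List (List ℕ × ℕ) := [([],0),
  ([],9),
  ([],42),
  ([13,17,11,19,22,28],42),
  ([],44),
  ([10,15,11,23,28],42),
  ([13,17,11,19,22,28],44),
  ([14,17,10,23,22],9),
  ([15,12,21,25,22,28,28],9),
  ([14,17,10,23,22],44),
  ([10,15,11,23,28],44),
  ([13,17,11,19,22,28],9),
  ([10,15,11,23,28],9),
  ([15,12,21,25,22,28,28],44),
  ([14,17,10,23,22],42),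
  ([16,11,13,19,22],44),
  ([15,12,21,25,22,28,28],42),
  ([16,11,13,19,22],42),
  ([16,11,13,19,22],9)]
noncomputable def rT : List (List ℕ × ℕ) := [([0,1,0,1,0,1],2796),
  ([0,1,0,1,0,1],1740),
  ([0,0,0,0,1,0,0,0,0,1,0,0,0,0,1,0,0,0,0,1,0,0,0,0,1,0,0,0,0,1],1824),
  ([0,0,0,0,1,0,0,1,0,0,0,0,1,0,0,0,0,0,0,1,0,0,0,0,0,0,0,1,0,0,1,0,0,0,0,1,0,0,0,0,0,0,1,0,0,0],2916)]
noncomputable def uu : List (List ℕ) := [[],
  [9],
  [9,9],
  [9,14,10,19,19,24,22,28,28],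
  [9,14,19,19,25,24,22,27,27],
  [9,16,9,20,19,25,28],
  [10],
  [10,10],
  [10,11,10,20,19,22,28,28],
  [10,14,19,19,25,24,22,27,27],
  [11,10,12,20,19,22,28,28],
  [11,10,20,19,22,28,28],
  [12,15,22,28],
  [13,11,21,27,27],
  [14,10,19,19,24,22,28,28],
  [14,19,19,25,24,22,27,27],
  [15,17,9,21,18,28,28],
  [16,9,20,19,25,28],
  [16,11,13,19,23]]
noncomputable def wT : Tr ℕ := (.node (.leaf w0) (.leaf w1))
noncomputable def en : Enum := ⟨inv, 8, 255, 3, fun i => force (Nat.shiftRight i 10) fun c => look 0xffffff (wT.get c) (Nat.mul 24 (Nat.land i 1023)), 11, [2088,168,108], 4096⟩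
noncomputable def tst : (ℕ → ℕ) → Bool := outTest (appT tabs t46 0xfff) bs aK rT [(9, 11)] uu

end Cfsg.Agent.CG.J1
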